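import Mathlib.AlgebraicGeometry.Morphisms.UniversallyInjective
import Mathlib.AlgebraicGeometry.FunctionField
import Mathlib.FieldTheory.PurelyInseparable.Basic
import Groth.Agent.Lib.Orbit27.Prod
import Groth.Agent.Lib.NormalSerre.AssPrincipal
import Groth.Agent.Lib.RLpsi8.SpecNormal

/-!
# Global functions along a bijective morphism onto a normal variety
-/

universe u

open CategoryTheory CategoryTheory.Limits MonoidalCategory CartesianMonoidalCategory AlgebraicGeometry TopologicalSpace
open GrothLib.Orbit27 (ratPt_ext)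

namespace GrothLib.BijNormal27

variable {k : Type u} [Field k] [IsAlgClosed k]

theorem universallyInjective {X Y : Over (Spec (CommRingCat.of k))} [LocallyOfFiniteType X.hom]
    [LocallyOfFiniteType Y.hom] [IsSeparated X.hom] [IsSeparated Y.hom] (π : Y ⟶ X)
    (hπ : Function.Injective π.left.base) : UniversallyInjective π.left := by
  rw [UniversallyInjective.iff_diagonal, surjective_iff]
  haveI : LocallyOfFiniteType (π.left ≫ X.hom) := by rw [Over.w]; infer_instance
  haveI : LocallyOfFiniteType π.left := locallyOfFiniteType_of_comp π.left X.hom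
  haveI : IsSeparated (π.left ≫ X.hom) := by rw [Over.w]; infer_instance
  haveI : IsSeparated π.left := IsSeparated.of_comp π.left X.hom
  let P : Over (Spec (CommRingCat.of k)) := Over.mk (pullback.fst π.left π.left ≫ Y.hom)
  haveI : LocallyOfFiniteType P.hom := inferInstanceAs (LocallyOfFiniteType (pullback.fst π.left π.left ≫ Y.hom))
  let p₁ : P ⟶ Y := Over.homMk (pullback.fst π.left π.left) rfl
  let p₂ : P ⟶ Y := Over.homMk (pullback.snd π.left π.left) (by
    show _ = pullback.fst π.left π.left ≫ Y.hom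
    rw [← Over.w π, pullback.condition_assoc])
  intro z
  refine Orbit27.subset_of_closedPoints (P := P) isClosed_univ
    (pullback.diagonal π.left).isClosedEmbedding.isClosed_range (fun u _ => ?_) (Set.mem_univ z)
  have e : u ≫ p₁ = u ≫ p₂ := by
    refine ratPt_ext (hπ ?_)
    show π.left (pullback.fst π.left π.left (u.left (IsLocalRing.closedPoint k))) =
      π.left (pullback.snd π.left π.left (u.left (IsLocalRing.closedPoint k)))
    rw [← Scheme.Hom.comp_apply, ← Scheme.Hom.comp_apply, ← Scheme.Hom.comp_apply, ← Scheme.Hom.comp_apply,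
      pullback.condition]
  refine ⟨(u ≫ p₁).left.base (IsLocalRing.closedPoint k), ?_⟩
  show pullback.diagonal π.left ((u.left ≫ pullback.fst π.left π.left) (IsLocalRing.closedPoint k)) = _
  rw [← Scheme.Hom.comp_apply]
  have e' : u.left ≫ pullback.fst π.left π.left = u.left ≫ pullback.snd π.left π.left := congrArg CommaMorphism.left e
  have e'' : (u.left ≫ pullback.fst π.left π.left) ≫ pullback.diagonal π.left = u.left := by
    apply pullback.hom_ext
    · simp
    · simp [e']
  rw [e'']

theorem isUnit_or {R K : Type*} [CommRing R] [IsDomain R] [ValuationRing R] [Field K] [Algebra R K]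
    [IsFractionRing R K] (c : K) : (∃ r, algebraMap R K r = c) ∨ ∃ r, algebraMap R K r = c⁻¹ :=
  ValuationRing.isInteger_or_isInteger R c

theorem valuationRing_of_height_one {A R : Type*} [CommRing A] [IsDomain A] [IsNoetherianRing A]
    [IsIntegrallyClosed A] [CommRing R] [IsDomain R] [Algebra A R] (P : Ideal A) [P.IsPrime]
    [IsLocalization.AtPrime R P] (hP : P.height = 1) : ValuationRing R := by
  haveI : IsLocalRing R := IsLocalization.AtPrime.isLocalRing R P
  haveI : IsNoetherianRing R := IsLocalization.isNoetherianRing P.primeCompl R inferInstance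
  haveI : IsIntegrallyClosed R := isIntegrallyClosed_of_isLocalization R P.primeCompl P.primeCompl_le_nonZeroDivisors
  have hd : ringKrullDim R = 1 := by rw [IsLocalization.AtPrime.ringKrullDim_eq_height P, hP]; rfl
  have hf : ¬ IsField R := fun h => by
    have h0 := ringKrullDim_eq_zero_of_isField h
    rw [hd] at h0
    exact one_ne_zero h0
  haveI : Ring.KrullDimLE 1 R := Ring.krullDimLE_iff.2 hd.le
  haveI : Ring.DimensionLEOne R := ⟨fun {p} hp hprime => by
    haveI := hprime
    exact Ring.krullDimLE_one_iff_of_noZeroDivisors.1 ‹Ring.KrullDimLE 1 R› p hp hprime⟩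
  haveI : IsDedekindDomain R := {}
  haveI := ((IsDiscreteValuationRing.TFAE R hf).out 0 2).2 ‹IsDedekindDomain R›
  infer_instance

variable {X Y : Scheme.{u}} [IsIntegral X] [IsIntegral Y] (f : Y ⟶ X)

/-- The map of function fields. -/
noncomputable def ffMap (e : f (genericPoint Y) = genericPoint X) : X.functionField ⟶ Y.functionField :=
  X.presheaf.stalkSpecializes (specializes_of_eq e) ≫ f.stalkMap (genericPoint Y)

theorem ffMap_germ (e : f (genericPoint Y) = genericPoint X) (U : X.Opens) (hU : genericPoint X ∈ U) (s : Γ(X, U)) :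
    ffMap f e (X.presheaf.germ U (genericPoint X) hU s) =
      Y.presheaf.germ (f ⁻¹ᵁ U) (genericPoint Y) (show f (genericPoint Y) ∈ U from e ▸ hU) (f.app U s) := by
  show (X.presheaf.germ U (genericPoint X) hU ≫ X.presheaf.stalkSpecializes (specializes_of_eq e) ≫
    f.stalkMap (genericPoint Y)) s = _
  rw [TopCat.Presheaf.germ_stalkSpecializes_assoc, Scheme.Hom.germ_stalkMap]
  rfl

theorem ffMap_algebraMap (e : f (genericPoint Y) = genericPoint X) (y : Y) (r : X.presheaf.stalk (f y)) :
    ffMap f e (algebraMap (X.presheaf.stalk (f y)) X.functionField r) =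
      algebraMap (Y.presheaf.stalk y) Y.functionField (f.stalkMap y r) := by
  obtain ⟨U, hU, s, rfl⟩ := X.presheaf.germ_exist r
  have hη : genericPoint X ∈ U := ((genericPoint_spec X).specializes trivial).mem_open U.2 hU
  have h1 : algebraMap (X.presheaf.stalk (f y)) X.functionField (X.presheaf.germ U (f y) hU s) =
      X.presheaf.germ U (genericPoint X) hη s := by
    show (X.presheaf.germ U (f y) hU ≫ X.presheaf.stalkSpecializes _) s = _
    rw [TopCat.Presheaf.germ_stalkSpecializes]
  rw [h1, ffMap_germ, Scheme.Hom.germ_stalkMap_apply]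
  show _ = (Y.presheaf.germ (f ⁻¹ᵁ U) y hU ≫ Y.presheaf.stalkSpecializes _) (f.app U s)
  rw [TopCat.Presheaf.germ_stalkSpecializes]

theorem exists_pow_mem [UniversallyInjective f] (e : f (genericPoint Y) = genericPoint X) (l : Y.functionField) :
    ∃ (q : ℕ) (c : X.functionField), 0 < q ∧ ffMap f e c = l ^ q := by
  have hiff : UniversallyInjective f ↔
      Function.Injective f ∧ ∀ x, (f.residueFieldMap x).hom.IsPurelyInseparable :=
    (tfae_universallyInjective f).out 0 2
  have hp := (hiff.1 ‹UniversallyInjective f›).2 (genericPoint Y)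
  letI := (f.residueFieldMap (genericPoint Y)).hom.toAlgebra
  haveI : IsPurelyInseparable (X.residueField (f (genericPoint Y))) (Y.residueField (genericPoint Y)) := hp
  obtain ⟨p, hexp⟩ := ExpChar.exists (X.residueField (f (genericPoint Y)))
  obtain ⟨n, cbar, hc⟩ := IsPurelyInseparable.pow_mem (X.residueField (f (genericPoint Y))) p
    (Y.residue (genericPoint Y) l)
  obtain ⟨c₀, rfl⟩ := X.residue_surjective (f (genericPoint Y)) cbar
  let c : X.functionField := X.presheaf.stalkSpecializes (specializes_of_eq e.symm) c₀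
  refine ⟨p ^ n, c, pow_pos (expChar_pos (X.residueField (f (genericPoint Y))) p) n, ?_⟩
  have h1 : ffMap f e c = f.stalkMap (genericPoint Y) c₀ := by
    show (X.presheaf.stalkSpecializes (specializes_of_eq e.symm) ≫ X.presheaf.stalkSpecializes (specializes_of_eq e) ≫
      f.stalkMap (genericPoint Y)) c₀ = _
    rw [TopCat.Presheaf.stalkSpecializes_comp_assoc, TopCat.Presheaf.stalkSpecializes_refl, Category.id_comp]
  rw [h1]
  refine RingHom.injective (R := Y.functionField) (Y.residue (genericPoint Y)).hom ?_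
  rw [map_pow]
  refine Eq.trans ?_ hc
  show (f.stalkMap (genericPoint Y) ≫ Y.residue (genericPoint Y)) c₀ = _
  rw [← Scheme.residue_residueFieldMap]
  rfl

/-- A function on the base with integral image is regular on every normal affine open. -/
theorem exists_section [IsLocallyNoetherian X] (hX : ∀ x : X, IsIntegrallyClosed (X.presheaf.stalk x))
    (hs : Function.Surjective f.base) (e : f (genericPoint Y) = genericPoint X)
    (c : X.functionField) (b : Γ(Y, ⊤)) (hc : ffMap f e c = Y.presheaf.germ ⊤ (genericPoint Y) trivial b)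
    {U : X.Opens} (hU : IsAffineOpen U) [Nonempty U] : ∃ s : Γ(X, U), X.germToFunctionField U s = c := by
  haveI : Nonempty ↥(⊤ : X.Opens) := ⟨⟨genericPoint X, trivial⟩⟩
  haveI : Nonempty ↥((⊤ : X.Opens) : Scheme.{u}) := ‹_›
  haveI : IsIntegral ((⊤ : X.Opens) : Scheme.{u}) := isIntegral_of_isOpenImmersion (⊤ : X.Opens).ι
  obtain ⟨hdom, hic⟩ := RLpsi8.ConeSeries.isIntegrallyClosed_affine_of_le (X := X) (U := ⊤)
    (fun x => ⟨inferInstance, hX x⟩) hU le_top
  haveI : IsNoetherianRing Γ(X, U) := IsLocallyNoetherian.component_noetherian ⟨U, hU⟩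
  haveI := functionField_isFractionRing_of_isAffineOpen X U hU
  let E : FractionRing Γ(X, U) ≃ₐ[Γ(X, U)] X.functionField := FractionRing.algEquiv _ _
  suffices h : E.symm c ∈ Set.range (algebraMap Γ(X, U) (FractionRing Γ(X, U))) by
    obtain ⟨s, hs⟩ := h
    refine ⟨s, ?_⟩
    have := congrArg E hs
    rwa [AlgEquiv.commutes, AlgEquiv.apply_symm_apply] at this
  refine NormalSerre.mem_range_of_forall_height_one (E.symm c) fun P _ hP => ?_
  let P' : PrimeSpectrum Γ(X, U) := ⟨P, inferInstance⟩
  have hxU : hU.fromSpec P' ∈ U := hU.range_fromSpec.le ⟨P', rfl⟩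
  let x : U := ⟨hU.fromSpec P', hxU⟩
  have hPx : hU.primeIdealOf x = P' := hU.fromSpec.isOpenEmbedding.injective (hU.fromSpec_primeIdealOf x)
  obtain ⟨y, hy⟩ := hs x.1
  have hyU : f y ∈ U := hy ▸ hxU
  have hPy : (hU.primeIdealOf ⟨f y, hyU⟩).asIdeal = P := by
    rw [show (⟨f y, hyU⟩ : U) = x from Subtype.ext hy, hPx]
  haveI := hU.isLocalization_stalk ⟨f y, hyU⟩
  letI := TopCat.Presheaf.algebra_section_stalk X.presheaf (⟨f y, hyU⟩ : U)
  haveI := functionField_isScalarTower X U (⟨f y, hyU⟩ : U)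
  haveI hloc : IsLocalization.AtPrime (X.presheaf.stalk (f y)) P := by
    have hc' : P.primeCompl = (hU.primeIdealOf ⟨f y, hyU⟩).asIdeal.primeCompl := by
      ext a
      exact not_congr (by rw [hPy])
    show IsLocalization P.primeCompl _
    rw [hc']
    exact hU.isLocalization_stalk ⟨f y, hyU⟩
  haveI : ValuationRing (X.presheaf.stalk (f y)) := valuationRing_of_height_one P hP
  obtain ⟨r, hr⟩ : ∃ r, algebraMap (X.presheaf.stalk (f y)) X.functionField r = c := by
    rcases isUnit_or (R := X.presheaf.stalk (f y)) c with h | ⟨r, hr⟩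
    · exact h
    rcases eq_or_ne c 0 with rfl | hc0
    · exact ⟨0, map_zero _⟩
    have h1 : algebraMap (Y.presheaf.stalk y) Y.functionField (f.stalkMap y r * Y.presheaf.germ ⊤ y trivial b) = 1 := by
      have hb : algebraMap (Y.presheaf.stalk y) Y.functionField (Y.presheaf.germ ⊤ y trivial b) = ffMap f e c := by
        rw [hc]
        show (Y.presheaf.germ ⊤ y trivial ≫ Y.presheaf.stalkSpecializes _) b = _
        rw [TopCat.Presheaf.germ_stalkSpecializes]
      rw [map_mul, hb, ← ffMap_algebraMap f e, hr, ← map_mul, inv_mul_cancel₀ hc0, map_one]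
    have h2 : IsUnit (f.stalkMap y r) := by
      refine IsUnit.of_mul_eq_one (Y.presheaf.germ ⊤ y trivial b) ?_
      exact IsFractionRing.injective (Y.presheaf.stalk y) Y.functionField (h1.trans (map_one _).symm)
    obtain ⟨u, hu⟩ := IsLocalHom.map_nonunit (f := (f.stalkMap y).hom) r h2
    refine ⟨↑u⁻¹, ?_⟩
    rw [← inv_inv c, ← hr, ← hu]
    exact (map_units_inv _ u)
  obtain ⟨⟨a, s⟩, has⟩ := IsLocalization.surj P.primeCompl r
  refine ⟨a, s, s.2, E.injective ?_⟩
  rw [map_mul, AlgEquiv.apply_symm_apply, AlgEquiv.commutes, AlgEquiv.commutes,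
    IsScalarTower.algebraMap_apply Γ(X, U) (X.presheaf.stalk (f y)) X.functionField,
    IsScalarTower.algebraMap_apply Γ(X, U) (X.presheaf.stalk (f y)) X.functionField, ← hr, ← map_mul, has]

/-- Glueing to a global function. -/
theorem exists_global [IsLocallyNoetherian X] (hX : ∀ x : X, IsIntegrallyClosed (X.presheaf.stalk x))
    (hs : Function.Surjective f.base) (e : f (genericPoint Y) = genericPoint X)
    (c : X.functionField) (b : Γ(Y, ⊤)) (hc : ffMap f e c = Y.presheaf.germ ⊤ (genericPoint Y) trivial b) :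
    ∃ s : Γ(X, ⊤), f.appTop s = b := by
  let I := {U : X.Opens // IsAffineOpen U ∧ Nonempty U}
  have hgen : ∀ U : I, genericPoint X ∈ U.1 := fun U => by
    obtain ⟨⟨x, hx⟩⟩ := U.2.2
    exact ((genericPoint_spec X).specializes trivial).mem_open U.1.2 hx
  choose sf hsf using fun U : I => (haveI := U.2.2; exists_section f hX hs e c b hc U.2.1)
  have hsf' : ∀ U : I, X.presheaf.germ U.1 (genericPoint X) (hgen U) (sf U) = c := fun U => hsf U
  have hcomp : TopCat.Presheaf.IsCompatible X.sheaf.1 (fun U : I => U.1) sf := by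
    intro U V
    refine germ_injective_of_isIntegral X (genericPoint X) (show genericPoint X ∈ U.1 ⊓ V.1 from ⟨hgen U, hgen V⟩) ?_
    erw [TopCat.Presheaf.germ_res_apply, TopCat.Presheaf.germ_res_apply]
    exact (hsf' U).trans (hsf' V).symm
  obtain ⟨s, hs', -⟩ := X.sheaf.existsUnique_gluing' (fun U : I => U.1) ⊤ (fun U => homOfLE le_top)
    (fun x _ => by
      obtain ⟨_, ⟨W, hW, rfl⟩, hxW, -⟩ := X.isBasis_affineOpens.exists_subset_of_mem_open (Set.mem_univ x) isOpen_univ
      exact Opens.mem_iSup.2 ⟨⟨W, hW, ⟨⟨x, hxW⟩⟩⟩, hxW⟩) sf hcomp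
  refine ⟨s, germ_injective_of_isIntegral Y (U := ⊤) (genericPoint Y) trivial ?_⟩
  obtain ⟨_, ⟨W, hW, rfl⟩, hxW, -⟩ :=
    X.isBasis_affineOpens.exists_subset_of_mem_open (Set.mem_univ (genericPoint X)) isOpen_univ
  rw [← hc, ← hsf' ⟨W, hW, ⟨⟨_, hxW⟩⟩⟩, ← hs' ⟨W, hW, ⟨⟨_, hxW⟩⟩⟩]
  erw [TopCat.Presheaf.germ_res_apply, ffMap_germ]
  rfl

theorem finiteType {X Y : Over (Spec (CommRingCat.of k))}
    [IsIntegral X.left] [IsIntegral Y.left] [LocallyOfFiniteType X.hom]
    [IsSeparated X.hom] [LocallyOfFiniteType Y.hom] [IsSeparated Y.hom]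
    (hX : ∀ x : X.left, IsIntegrallyClosed ↑(X.left.presheaf.stalk x))
    (π : Y ⟶ X) (hπ : Function.Bijective π.left.base)
    (hfg : ((Scheme.ΓSpecIso (CommRingCat.of k)).inv ≫ Y.hom.appTop).hom.FiniteType) :
    ((Scheme.ΓSpecIso (CommRingCat.of k)).inv ≫ X.hom.appTop).hom.FiniteType := by
  haveI := universallyInjective π hπ.1
  haveI : IsLocallyNoetherian X.left := LocallyOfFiniteType.isLocallyNoetherian X.hom
  have e : π.left (genericPoint Y.left) = genericPoint X.left := by
    refine ((genericPoint_spec Y.left).image π.left.continuous).eq ?_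
    rw [Set.image_univ, hπ.2.range_eq, closure_univ]
    exact genericPoint_spec X.left
  algebraize [((Scheme.ΓSpecIso (CommRingCat.of k)).inv ≫ X.hom.appTop).hom,
    ((Scheme.ΓSpecIso (CommRingCat.of k)).inv ≫ Y.hom.appTop).hom, π.left.appTop.hom]
  haveI : IsScalarTower k Γ(X.left, ⊤) Γ(Y.left, ⊤) := .of_algebraMap_eq' (by
    show ((Scheme.ΓSpecIso (CommRingCat.of k)).inv ≫ Y.hom.appTop).hom =
      ((((Scheme.ΓSpecIso (CommRingCat.of k)).inv ≫ X.hom.appTop) ≫ π.left.appTop)).hom
    rw [Category.assoc, ← Scheme.Hom.comp_appTop, Over.w])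
  have hinj : Function.Injective (algebraMap Γ(X.left, ⊤) Γ(Y.left, ⊤)) := by
    rw [injective_iff_map_eq_zero]
    intro s hs0
    refine germ_injective_of_isIntegral X.left (U := ⊤) (genericPoint X.left) trivial ?_
    rw [map_zero]
    refine (ffMap π.left e).hom.injective ?_
    rw [map_zero]
    erw [ffMap_germ]
    rw [show π.left.app ⊤ s = 0 from hs0, map_zero]
  have key : ∀ b : Γ(Y.left, ⊤), ∃ (q : ℕ) (s : Γ(X.left, ⊤)), 0 < q ∧ algebraMap _ Γ(Y.left, ⊤) s = b ^ q := by
    intro b
    obtain ⟨q, c, hq, hc⟩ := exists_pow_mem π.left e (Y.left.presheaf.germ ⊤ (genericPoint Y.left) trivial b)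
    obtain ⟨s, hs⟩ := exists_global π.left hX hπ.2 e c (b ^ q) (by rw [hc, map_pow])
    exact ⟨q, s, hq, hs⟩
  choose q s hq hs using key
  haveI : Algebra.FiniteType k Γ(Y.left, ⊤) := hfg
  obtain ⟨S, hS⟩ := (Algebra.FiniteType.out (R := k) (A := Γ(Y.left, ⊤)))
  classical
  let A₀ : Subalgebra k Γ(X.left, ⊤) := Algebra.adjoin k ↑(S.image s)
  letI : Algebra A₀ Γ(Y.left, ⊤) := ((algebraMap Γ(X.left, ⊤) Γ(Y.left, ⊤)).comp A₀.val.toRingHom).toAlgebra
  haveI : IsScalarTower k A₀ Γ(Y.left, ⊤) := .of_algebraMap_eq fun r =>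
    IsScalarTower.algebraMap_apply k Γ(X.left, ⊤) Γ(Y.left, ⊤) r
  haveI : IsScalarTower A₀ Γ(X.left, ⊤) Γ(Y.left, ⊤) := .of_algebraMap_eq fun _ => rfl
  have hint : ∀ b ∈ S, IsIntegral A₀ b := fun b hb => by
    refine IsIntegral.of_pow (hq b) ?_
    rw [← hs b]
    exact isIntegral_algebraMap (x := (⟨s b, Algebra.subset_adjoin (Finset.mem_coe.2 (Finset.mem_image_of_mem s hb))⟩ : A₀))
  have hfinS : Module.Finite A₀ ↥(Algebra.adjoin A₀ (S : Set Γ(Y.left, ⊤))) :=
    Module.Finite.iff_fg.2 (fg_adjoin_of_finite S.finite_toSet hint)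
  have htop : Algebra.adjoin A₀ (S : Set Γ(Y.left, ⊤)) = ⊤ := by
    refine top_le_iff.1 fun b _ => ?_
    have hb : b ∈ Algebra.adjoin k (S : Set Γ(Y.left, ⊤)) := by rw [hS]; exact Algebra.mem_top
    clear * - hb
    induction hb using Algebra.adjoin_induction with
    | mem x hx => exact Algebra.subset_adjoin hx
    | algebraMap r =>
      rw [IsScalarTower.algebraMap_apply k Γ(X.left, ⊤) Γ(Y.left, ⊤) r]
      exact Subalgebra.algebraMap_mem _ (⟨algebraMap k Γ(X.left, ⊤) r, A₀.algebraMap_mem r⟩ : A₀)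
    | add x y _ _ hx hy => exact add_mem hx hy
    | mul x y _ _ hx hy => exact mul_mem hx hy
  rw [htop] at hfinS
  haveI : Module.Finite A₀ Γ(Y.left, ⊤) := Module.Finite.equiv Subalgebra.topEquiv.toLinearEquiv
  haveI hA₀ : Algebra.FiniteType k A₀ := (Subalgebra.fg_iff_finiteType A₀).1 ⟨S.image s, rfl⟩
  haveI : IsNoetherianRing A₀ := Algebra.FiniteType.isNoetherianRing k A₀
  haveI : Module.Finite A₀ Γ(X.left, ⊤) :=
    Module.Finite.of_injective
      ({ toFun := algebraMap Γ(X.left, ⊤) Γ(Y.left, ⊤)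
         map_add' := map_add _
         map_smul' := fun a x => map_mul (algebraMap Γ(X.left, ⊤) Γ(Y.left, ⊤)) a.1 x } :
        Γ(X.left, ⊤) →ₗ[A₀] Γ(Y.left, ⊤)) hinj
  exact Algebra.FiniteType.trans (S := A₀) hA₀ inferInstance

end GrothLib.BijNormal27
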